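import Groth.Agent.RegLoc6.Basic
import Mathlib.RingTheory.RegularLocalRing.Polynomial
import Mathlib.RingTheory.Localization.AtPrime.Basic
import Mathlib.RingTheory.LocalProperties.Reduced
import Mathlib.RingTheory.AdjoinRoot
import Mathlib.RingTheory.Flat.Stability

/-! Regularity of monogenic quotients. -/

universe u

namespace Groth.Agent.CycCovLib

open Polynomial

section quot

variable {R S : Type u} [CommRing R] [CommRing S] (φ : R →+* S)

/-- Localization commutes with a principal quotient. -/
theorem exists_quotEquiv (hφ : Function.Surjective φ) (P : R) (hker : RingHom.ker φ = Ideal.span {P})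
    (Q : Ideal S) [Q.IsPrime] :
    Nonempty ((Localization.AtPrime (Q.comap φ) ⧸
        Ideal.span {algebraMap R (Localization.AtPrime (Q.comap φ)) P}) ≃+*
      Localization.AtPrime Q) := by
  let p := Q.comap φ
  let ψ := Localization.localRingHom p Q φ rfl
  have hsurj : Function.Surjective ψ := fun y => by
    obtain ⟨⟨a, s⟩, rfl⟩ := IsLocalization.mk'_surjective Q.primeCompl y
    obtain ⟨a', rfl⟩ := hφ a
    obtain ⟨s', hs'⟩ := hφ (s : S)
    refine ⟨IsLocalization.mk' _ a' (⟨s', fun h => s.2 (hs' ▸ (Ideal.mem_comap.1 h))⟩ : p.primeCompl), ?_⟩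
    rw [Localization.localRingHom_mk']
    congr 1
    exact Subtype.ext hs'
  have hk : RingHom.ker ψ = Ideal.span {algebraMap R (Localization.AtPrime p) P} := by
    refine le_antisymm (fun x hx => ?_) ((Ideal.span_singleton_le_iff_mem _).2 ?_)
    · obtain ⟨⟨a, s⟩, rfl⟩ := IsLocalization.mk'_surjective p.primeCompl x
      rw [RingHom.mem_ker, Localization.localRingHom_mk', IsLocalization.mk'_eq_zero_iff] at hx
      obtain ⟨v, hv⟩ := hx
      obtain ⟨v', hv'⟩ := hφ (v : S)
      have hva : v' * a ∈ Ideal.span {P} := by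
        rw [← hker, RingHom.mem_ker, map_mul, hv']; exact hv
      obtain ⟨b, hb⟩ := Ideal.mem_span_singleton.1 hva
      let v'' : p.primeCompl := ⟨v', fun h => v.2 (hv' ▸ Ideal.mem_comap.1 h)⟩
      refine Ideal.mem_span_singleton.2 ⟨IsLocalization.mk' _ b (v'' * s), ?_⟩
      rw [IsLocalization.mul_mk'_eq_mk'_of_mul, IsLocalization.mk'_eq_iff_eq]
      refine congrArg (algebraMap R _) ?_
      simp only [Submonoid.coe_mul, v'']
      linear_combination (s : R) * hb
    · rw [RingHom.mem_ker, Localization.localRingHom_to_map]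
      have : φ P = 0 := by rw [← RingHom.mem_ker, hker]; exact Ideal.mem_span_singleton_self P
      rw [this, map_zero]
  exact ⟨(Ideal.quotEquivOfEq hk.symm).trans (RingHom.quotientKerEquivOfSurjective hsurj)⟩

theorem algebraMap_mem_maximal {P : R} (hker : RingHom.ker φ = Ideal.span {P}) (Q : Ideal S)
    [Q.IsPrime] : algebraMap R (Localization.AtPrime (Q.comap φ)) P ∈
      IsLocalRing.maximalIdeal (Localization.AtPrime (Q.comap φ)) := by
  rw [IsLocalization.AtPrime.to_map_mem_maximal_iff _ (Q.comap φ), Ideal.mem_comap]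
  have : φ P = 0 := by rw [← RingHom.mem_ker, hker]; exact Ideal.mem_span_singleton_self P
  rw [this]; exact Q.zero_mem

theorem isRegular_of_not_mem_sq [IsRegularRing R] (hφ : Function.Surjective φ) (P : R)
    (hker : RingHom.ker φ = Ideal.span {P}) (Q : Ideal S) [Q.IsPrime]
    (h : ∀ x ∉ Q.comap φ, x * P ∉ Q.comap φ ^ 2) : IsRegularLocalRing (Localization.AtPrime Q) := by
  obtain ⟨e⟩ := exists_quotEquiv φ hφ P hker Q
  have hm2 : algebraMap R (Localization.AtPrime (Q.comap φ)) P ∉
      IsLocalRing.maximalIdeal (Localization.AtPrime (Q.comap φ)) ^ 2 := by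
    rw [← Localization.AtPrime.map_eq_maximalIdeal, ← Ideal.map_pow,
      IsLocalization.algebraMap_mem_map_algebraMap_iff (Q.comap φ).primeCompl]
    rintro ⟨x, hx, hxP⟩
    exact h x hx hxP
  haveI := (RegLoc6.isRegularLocalRing_quot_and (algebraMap_mem_maximal φ hker Q) hm2).1
  exact IsRegularLocalRing.of_ringEquiv e

theorem isRegular_lift [IsNoetherianRing R] (hφ : Function.Surjective φ) (P : R)
    (hker : RingHom.ker φ = Ideal.span {P}) (hP : IsSMulRegular R P) (p : Ideal R) [p.IsPrime]
    (hp : P ∈ p) [IsRegularRing S] : IsRegularLocalRing (Localization.AtPrime p) := by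
  have hle : RingHom.ker φ ≤ p := hker ▸ (Ideal.span_singleton_le_iff_mem _).2 hp
  haveI : (p.map φ).IsPrime := Ideal.map_isPrime_of_surjective hφ hle
  have hcomap : (p.map φ).comap φ = p := by
    rw [Ideal.comap_map_of_surjective _ hφ, sup_eq_left]; exact hle
  obtain ⟨e⟩ := exists_quotEquiv φ hφ P hker (p.map φ)
  haveI := IsRegularLocalRing.of_ringEquiv e.symm
  have := RegLoc6.of_quotient (algebraMap_mem_maximal φ hker (p.map φ))
    (by
      have h := IsSMulRegular.of_flat (S := Localization.AtPrime ((p.map φ).comap φ)) hP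
      exact h)
  have key : ∀ (q : Ideal R) (_ : q.IsPrime), q = p → IsRegularLocalRing (Localization.AtPrime q) →
      IsRegularLocalRing (Localization.AtPrime p) := by
    rintro q _ rfl h; exact h
  exact key _ _ hcomap this

end quot

theorem derivative_mem_of_mem_sq {R : Type u} [CommRing R] {p : Ideal R[X]} {x : R[X]}
    (hx : x ∈ p ^ 2) : derivative x ∈ p := by
  rw [pow_two] at hx
  induction hx using Submodule.mul_induction_on' with
  | mem_mul_mem a ha b hb =>
    rw [derivative_mul]
    exact p.add_mem (p.mul_mem_left _ hb) (p.mul_mem_right _ ha)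
  | add a _ b _ ha hb => rw [map_add]; exact p.add_mem ha hb

/-- A monogenic quotient is regular where the derivative does not vanish. -/
theorem isRegular_of_derivative {R S : Type u} [CommRing R] [CommRing S] [IsRegularRing R]
    (φ : R[X] →+* S) (hφ : Function.Surjective φ) (P : R[X])
    (hker : RingHom.ker φ = Ideal.span {P}) (Q : Ideal S) [Q.IsPrime]
    (hd : φ (derivative P) ∉ Q) : IsRegularLocalRing (Localization.AtPrime Q) := by
  refine isRegular_of_not_mem_sq φ hφ P hker Q fun x hx hxP => ?_
  have h := derivative_mem_of_mem_sq hxP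
  rw [derivative_mul, Ideal.mem_comap, map_add, map_mul, map_mul,
    show φ P = 0 by rw [← RingHom.mem_ker, hker]; exact Ideal.mem_span_singleton_self P,
    mul_zero, zero_add] at h
  exact ((Ideal.IsPrime.mem_or_mem inferInstance h).resolve_right hd) |> hx

theorem isReduced_of_isRegularRing (R : Type u) [CommRing R] [IsRegularRing R] : IsReduced R := by
  refine isReduced_ofLocalizationMaximal R fun J hJ => ?_
  haveI : IsRegularLocalRing (Localization.AtPrime J) :=
    IsRegularRing.isRegularLocalRing_localization J
  haveI := RegLoc6.isDomain_of_isRegularLocalRing (Localization.AtPrime J)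
  infer_instance

/-- Integral elements of `D[1/s]` lie in `D` when `D/sD` is reduced. -/
theorem mem_range_of_isIntegral {D L : Type u} [CommRing D] [CommRing L] [Algebra D L] (s : D)
    (hinj : Function.Injective (algebraMap D L)) (hu : IsUnit (algebraMap D L s))
    [IsReduced (D ⧸ Ideal.span {s})]
    (x : L) (hx : IsIntegral D x) (k : ℕ) (hk : ∃ d, x * algebraMap D L s ^ k = algebraMap D L d) :
    x ∈ Set.range (algebraMap D L) := by
  induction k generalizing x with
  | zero => obtain ⟨d, hd⟩ := hk; exact ⟨d, by simpa using hd.symm⟩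
  | succ k ih =>
    obtain ⟨d, hd⟩ := hk
    let z := x * algebraMap D L s ^ k
    have hz : IsIntegral D z := hx.mul (isIntegral_algebraMap.pow k)
    have hzs : z * algebraMap D L s = algebraMap D L d := by
      rw [← hd, pow_succ]; simp only [z, mul_assoc]
    obtain ⟨P, hP, hPz⟩ := hz
    have hzero : (scaleRoots P s).eval d = 0 := by
      apply hinj
      rw [map_zero, eval, hom_eval₂, RingHom.comp_id, ← hzs, mul_comm z]
      exact scaleRoots_eval₂_eq_zero _ hPz
    have hd' : d ∈ Ideal.span {s} := by
      rw [← Ideal.Quotient.eq_zero_iff_mem]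
      have h := congrArg (Ideal.Quotient.mk (Ideal.span {s})) hzero
      rw [eval_eq_sum_range, map_sum, map_zero, Finset.sum_eq_single P.natDegree] at h
      · rw [coeff_scaleRoots_natDegree, hP.leadingCoeff] at h
        exact IsReduced.eq_zero _ ⟨P.natDegree, by simpa using h⟩
      · intro i hi hne
        rw [natDegree_scaleRoots, Finset.mem_range] at hi
        rw [coeff_scaleRoots, map_mul, map_mul, map_pow,
          show Ideal.Quotient.mk (Ideal.span {s}) (s : D) = 0 from
            Ideal.Quotient.eq_zero_iff_mem.2 (Ideal.mem_span_singleton_self s)]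
        simp [zero_pow (show P.natDegree - i ≠ 0 by omega)]
      · simp
    obtain ⟨d', rfl⟩ := Ideal.mem_span_singleton.1 hd'
    refine ih x hx ⟨d', hu.mul_left_inj.1 ?_⟩
    rw [map_mul] at hzs
    rw [hzs, mul_comm]

end Groth.Agent.CycCovLib
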